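import Cfsg.Agent.Lib.InvE.Final

/-!
The number of conjugacy classes of involutions.
-/

set_option autoImplicit false
set_option linter.unusedSectionVars false
set_option linter.unusedVariables false
set_option linter.ambiguousOpen false

namespace Cfsg.Agent.Lib.InvE.Final

open scoped MatrixGroups Matrix
open Cfsg Lie ChevalleyDatum
open Cfsg.Agent.Lib.Chev
open Tables Tables2 Tables3 Raise Basic AxBasic Torus Products Products2 Mono1 Mono2 Mono3
open Cfsg.Agent.Lib.Twisted.Fact Cfsg.Agent.Lib.InvE.Red Cfsg.Agent.Lib.InvE.Fusion Cfsg.Agent.Lib.InvE.Bits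
open Cfsg.Agent.Lib.InvE.Tree

variable {D : ChevalleyDatum} {F : Type*} [Field F]

variable [CharP F 2] {ax : Ax D F} (h : Tab D) (h2 : Tab2 D) (hs : SL D) {Reps : List (List ℕ)} {rk : List ℕ → ℕ}

open Classical in
/-- The class of the product for a list. -/
noncomputable def clOf (ax : Ax D F) (h : Tab D) (ρ : List ℕ) : ConjClasses ↥(D.group F) :=
  if hρ : ∀ u ∈ ρ, u < D.nroots then ConjClasses.mk ⟨PP ax ρ, PP_mem ax h ρ hρ⟩ else ConjClasses.mk 1

include h h2 hs in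
/-- The number of classes of involutions. -/
theorem count_classes [Fintype F] (H : Hyp ax Reps rk) (hnd : Reps.Nodup) :
    (ConjClasses.mk '' {g : ↥(D.group F) | orderOf g = 2}).ncard = Reps.length := by
  classical
  have hinj : ∀ ρ₁ ∈ Reps, ∀ ρ₂ ∈ Reps, clOf ax h ρ₁ = clOf ax h ρ₂ → ρ₁ = ρ₂ := by
    intro ρ₁ h1 ρ₂ h3 e
    simp only [clOf, dif_pos (H.lt ρ₁ h1), dif_pos (H.lt ρ₂ h3)] at e
    obtain ⟨c, hc⟩ := isConj_iff.mp (ConjClasses.mk_eq_mk_iff_isConj.mp e)
    have e1 : c.1 * PP ax ρ₁ * (c.1)⁻¹ = PP ax ρ₂ := congrArg Subtype.val hc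
    have e2 := rank_conj F c.1 (PP ax ρ₁)
    rw [e1] at e2
    apply H.inj ρ₁ h1 ρ₂ h3
    rw [← H.rank ρ₁ h1, ← H.rank ρ₂ h3]
    exact e2.symm
  have hset : ConjClasses.mk '' {g : ↥(D.group F) | orderOf g = 2} = ↑(Reps.map (clOf ax h)).toFinset := by
    ext C
    simp only [Set.mem_image, Set.mem_ofPred_eq, List.coe_toFinset, List.mem_map]
    constructor
    · rintro ⟨g, hg, rfl⟩
      have ho : orderOf g.1 = 2 := by
        rw [← Subgroup.orderOf_coe] at hg
        exact hg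
      obtain ⟨y, hy, hm, k, hk, e⟩ := part_b h h2 hs H g.1 g.2 ho
      obtain ⟨ρ, hρ, rfl⟩ := eq_PP_of_mem hm
      refine ⟨ρ, hρ, ?_⟩
      simp only [clOf, dif_pos (H.lt ρ hρ)]
      symm
      apply ConjClasses.mk_eq_mk_iff_isConj.mpr
      rw [isConj_iff]
      exact ⟨⟨k, hk⟩, Subtype.ext e⟩
    · rintro ⟨ρ, hρ, rfl⟩
      simp only [clOf, dif_pos (H.lt ρ hρ)]
      refine ⟨_, ?_, rfl⟩
      have := (part_a h H (PP ax ρ) (List.mem_map.mpr ⟨ρ, hρ, rfl⟩)).2
      rw [← Subgroup.orderOf_coe]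
      exact this
  rw [hset, Set.ncard_coe_finset, List.toFinset_card_of_nodup (hnd.map_on hinj), List.length_map]

end Cfsg.Agent.Lib.InvE.Final
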