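import Cfsg.Agent.Lib.InvE.Final

/-!
Kernel checked data for the involutions of the Chevalley group of type E6 in characteristic two.
-/

set_option autoImplicit false
set_option linter.unusedSectionVars false
set_option linter.unusedVariables false
set_option linter.ambiguousOpen false
set_option maxRecDepth 100000

namespace Cfsg.Agent.Lib.InvE.DataE6

open scoped MatrixGroups Matrix
open Cfsg Lie ChevalleyDatum
open Cfsg.Agent.Lib.Chev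
open Tables Tables2 AxBasic Mono2
open Cfsg.Agent.Lib.InvE.Red Cfsg.Agent.Lib.InvE.Fusion Cfsg.Agent.Lib.InvE.Tree Cfsg.Agent.Lib.InvE.Final

def CC : ℕ := 0xa788887a788887a778887a878878a888878a

def YY : ℕ := 0x88889888987889798897898878898889878997978978978998789979789987889998887979887987987988798988878a8988879798877898879879977979978789979887987987988797988878a8988977798977879977887a8798977879977887a7789978887a7888a78888698888969888779888896998977998787998889689897799978799788799889868897978978978788978898779979779789779987889797889878889888986889787897897978897788897898877979877789877987987797987878987988788798788879788887898888878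

def RF : ℕ := 0x47464543444240413e3f3d3b3c3a393837353633343230312f2e2c2d2b2a282927252623242122201e1f1d1c1a1b191816171513141112100f0e0d0b0c0a0809060705030402010047464445434142403f3d3e3c3a3b3938363735343233312f302e2d2b2c2a2927282422262125231f201e1d1b1c1a191718161415131210110f0e0c0d0b090a0807050604020301004745464443423f3e41403d3c3b393a3837343336353231302e2f2d2c2a2b262520292824231f1e2722211c1d1b1a181917161512111413100f0d0e0c0b0a0706090805040301020047464241404544433f3e3d3c3b3a383937363531302f3433322e2928271d2d2c2b2625242322211c1b1a2a201f1e191514131817161211100e0f0d0c0b0a0908040302070605010046474544434241403c3b3a3f3e3d39383736352d2c2b292827193433322a31302f2625242322211817161d1514132e201f1e1c1b1a1211100f0e0a09080d0c0b070605040302000147464544433736353433322d2c2b2a0f4241403f3e3d31302f2e3c3b3a39292827262524232221201f1e0e0d0c0b191817160a0908070605381d1c1b1a1514131211100403020100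

theorem cor_chk : corootChk chevE6 = true := by decide +kernel
theorem sym_chk : cartanSymChk chevE6 = true := by decide +kernel
theorem c_chk : cChk chevE6 CC 6 = true := by decide +kernel
theorem y_chk : yChk CoefData.coefE6 CC YY 6 72 = true := by decide +kernel
theorem sl_chk : slChk chevE6 CoefData.coefE6 YY 6 72 = true := by decide +kernel
theorem tab_chk : tabChk chevE6 RF = true := by decide +kernel

theorem cor : CorootEq chevE6 := corootEq_of_chk cor_chk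
theorem sl : SL chevE6 := sl_of_chk tab_E6 cor rfl rfl rfl sym_chk c_chk y_chk sl_chk
theorem tabok : TabOK chevE6 RF := tabOK_of_chk tab_chk

def Reps : List (List ℕ) := [[71], [68, 66], [55, 65, 67]]

def RR : List (List ℕ) := [] :: Reps

def W0 : List (List ℕ) := [[1, 3, 4, 2, 3, 0, 2, 1, 3, 4, 5, 4, 3, 2, 1, 3, 4, 0, 2, 3, 1], [1, 3, 4, 2, 3, 0, 2, 1, 3, 4, 5, 4, 3, 2, 1, 3, 4, 0, 2, 3], [1, 3, 4, 2, 3, 0, 2, 1, 3, 4, 5, 4, 3, 2, 1, 3, 4, 0, 2, 1], [1, 3, 4, 2, 3, 0, 2, 1, 3, 4, 5, 4, 3, 0, 2, 1, 3, 0, 2, 1], [1, 3, 4, 5, 4, 2, 3, 0, 2, 1, 3, 4, 3, 0, 2, 1, 3, 0, 2, 1], [1, 3, 4, 2, 3, 0, 2, 1, 3, 4, 5, 4, 3, 2, 1, 3, 4, 3, 1, 0], [1, 3, 4, 2, 3, 0, 2, 1, 3, 4, 5, 3, 4, 3, 0, 2, 1, 3, 1, 0], [2, 1, 3, 4, 5, 4, 2, 3, 0, 2, 1, 3, 4, 3, 0, 2, 1, 3, 1, 0], [1, 3, 4, 2, 3, 0, 2, 1, 3, 4, 5, 2, 3, 4, 0, 2, 3, 2, 1, 0], [3, 2, 1, 3, 4, 5, 4, 2, 3, 0, 2, 1, 3, 4, 0, 2, 3,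 2, 1, 0], [4, 3, 2, 1, 3, 4, 5, 4, 3, 2, 1, 3, 4, 0, 2, 1, 3, 2, 1, 0], [0, 2, 3, 4, 5, 1, 3, 4, 2, 3, 0, 2, 1, 3, 4, 5, 3, 0, 2, 1, 3, 4, 0, 2, 1, 3, 2, 0], [3, 4, 2, 3, 0, 2, 1, 3, 4, 5, 1, 3, 4, 2, 3, 0, 2, 1, 3, 4, 0, 2, 1, 3, 2, 0], [3, 4, 2, 3, 0, 2, 1, 3, 4, 5, 4, 3, 2, 1, 3, 4, 2, 3, 0, 2, 1, 3, 2, 0], [4, 2, 3, 0, 2, 1, 3, 4, 5, 4, 3, 2, 1, 3, 4, 2, 1, 3, 0, 2, 1, 0], [4, 3, 0, 2, 1, 3, 4, 5, 4, 3, 2, 1, 3, 4, 2, 1, 3, 2, 1, 0], [1, 3, 4, 2, 3, 0, 2, 1, 3, 4, 5, 4, 3, 2, 1, 3, 4, 2, 3, 1], [1, 3, 4, 2, 3, 0, 2, 1, 3, 4, 5, 1, 3, 4, 3, 0, 2, 1, 3, 1], [0, 2, 1, 3, 4, 5, 4, 2, 3, 0, 2, 1, 3, 4, 3, 0, 2, 1, 3, 1], [1, 3, 4, 2, 3, 0, 2, 1, 3, 4, 5, 2, 1, 3, 4, 0, 2, 3, 2, 1], [3, 0, 2, 1, 3, 4, 5, 4, 2, 3, 0, 2, 1, 3, 4, 0, 2, 3, 2, 1], [4, 3, 0, 2, 1, 3, 4, 5, 4, 3, 2, 1, 3, 4, 0, 2, 1, 3, 2, 1], [1, 3, 4, 2, 3, 0, 2, 1, 3, 4, 5, 3, 2, 1, 3, 4, 0, 2, 3, 1], [2,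 3, 0, 2, 1, 3, 4, 5, 4, 2, 3, 0, 2, 1, 3, 4, 0, 2, 3, 1], [4, 2, 3, 0, 2, 1, 3, 4, 5, 4, 3, 2, 1, 3, 4, 0, 2, 1, 3, 1], [3, 4, 2, 3, 0, 2, 1, 3, 4, 5, 4, 3, 2, 1, 3, 4, 0, 2, 3, 1], [2, 3, 4, 5, 1, 3, 4, 2, 3, 0, 2, 1, 3, 4, 5, 3, 0, 2, 1, 3, 4, 0, 2, 1, 3, 2], [3, 4, 2, 3, 0, 2, 1, 3, 4, 5, 3, 4, 2, 3, 0, 2, 1, 3, 4, 0, 2, 1, 3, 2], [3, 4, 2, 3, 0, 2, 1, 3, 4, 5, 4, 3, 2, 1, 3, 4, 3, 0, 2, 1, 3, 2], [4, 2, 3, 0, 2, 1, 3, 4, 5, 4, 3, 2, 1, 3, 4, 1, 3, 0, 2, 1], [3, 4, 5, 1, 3, 4, 2, 3, 0, 2, 1, 3, 4, 5, 3, 0, 2, 1, 3, 4, 0, 2, 1, 3], [3, 4, 2, 3, 0, 2, 1, 3, 4, 5, 4, 2, 3, 0, 2, 1, 3, 4, 0, 2, 1, 3], [3, 4, 2, 3, 0, 2, 1, 3, 4, 5, 4, 3, 2, 1, 3, 4, 0, 2, 1, 3], [4, 5, 1, 3, 4, 2, 3, 0, 2, 1, 3, 4, 5, 3, 0, 2, 1, 3, 4, 0, 2, 1], [4, 2, 3, 0, 2, 1, 3, 4, 5, 4, 2, 3, 0, 2, 1, 3, 4, 0, 2, 1], [5, 1, 3, 4, 2, 3, 0, 2, 1, 3, 4, 5, 3, 0, 2, 1, 3, 0, 2, 1], [1, 3, 4, 2, 3, 0,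 2, 1, 3, 4, 3, 0, 2, 1, 3, 0, 2, 1], [2, 3, 0, 2, 1, 3, 4, 5, 4, 2, 3, 0, 2, 1, 3, 0, 2, 1], [2, 3, 0, 2, 1, 3, 4, 2, 3, 0, 2, 1, 3, 0, 2, 1], [4, 2, 3, 0, 2, 1, 3, 4, 5, 4, 3, 2, 1, 3, 4, 0, 2, 1], [2, 3, 0, 2, 1, 3, 4, 5, 4, 3, 2, 1, 3, 0, 2, 1], [2, 3, 0, 2, 1, 3, 4, 3, 2, 1, 3, 0, 2, 1], [4, 3, 0, 2, 1, 3, 4, 5, 4, 3, 2, 1, 3, 4, 1, 3, 1, 0], [4, 3, 0, 2, 1, 3, 4, 5, 4, 3, 2, 1, 3, 4, 1, 0], [3, 0, 2, 1, 3, 4, 5, 4, 3, 2, 1, 3, 1, 0], [3, 0, 2, 1, 3, 4, 3, 2, 1, 3, 1, 0], [3, 4, 2, 3, 0, 2, 1, 3, 4, 5, 4, 3, 2, 1, 3, 4, 0, 2, 3], [4, 2, 3, 0, 2, 1, 3, 4, 5, 4, 3, 2, 1, 3, 4, 0, 2], [2, 3, 0, 2, 1, 3, 4, 5, 4, 3, 2, 1, 3, 0, 2], [2, 3, 0, 2, 1, 3, 4, 3, 2, 1, 3, 0, 2], [4, 3, 0, 2, 1, 3, 4, 5, 4, 3, 2, 1, 3, 4, 0], [3, 0, 2, 1, 3, 4, 5, 4, 3, 2, 1, 3, 0], [3, 0, 2, 1, 3, 4, 3, 2, 1, 3, 0], [0, 2, 1, 3, 4, 5, 4, 3, 2, 1, 0], [0, 2, 1, 3, 4, 3, 2, 1, 0], [0, 2, 1, 3,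 2, 1, 0], [4, 3, 2, 1, 3, 4, 5, 4, 3, 2, 1, 3, 4, 2, 1, 3, 2, 1], [4, 3, 2, 1, 3, 4, 5, 4, 3, 2, 1, 3, 4, 1, 3, 1], [4, 3, 2, 1, 3, 4, 5, 4, 3, 2, 1, 3, 4, 1], [3, 2, 1, 3, 4, 5, 4, 3, 2, 1, 3, 1], [3, 2, 1, 3, 4, 3, 2, 1, 3, 1], [4, 3, 2, 1, 3, 4, 5, 4, 3, 2, 1, 3, 4], [3, 2, 1, 3, 4, 5, 4, 3, 2, 1, 3], [3, 2, 1, 3, 4, 3, 2, 1, 3], [2, 1, 3, 4, 5, 4, 3, 2, 1], [2, 1, 3, 4, 3, 2, 1], [2, 1, 3, 2, 1], [1, 3, 4, 5, 4, 3, 1], [1, 3, 4, 3, 1], [1, 3, 1], [1], []]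

theorem n0 : nodeChk chevE6 RF [] [71] W0 = true := by decide +kernel

def BW0 : List ℕ := []
theorem b0_1 : ∀ i ∈ BW0, i < chevE6.rank := by decide +kernel
theorem b0_2 : ∀ u ∈ ([] : List ℕ), u < chevE6.nroots := by decide +kernel
theorem b0_3 : ([] : List ℕ) ∈ RR := by decide +kernel
theorem b0_4 : (([] : List ℕ).map (act chevE6 BW0)).Perm [] := by decide +kernel
theorem b0_5 : orthChk chevE6 (([] : List ℕ).map (act chevE6 BW0)) = true := by decide +kernel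

def W1 : List (List ℕ) := [[], [], [], [], [], [], [], [], [], [], [], [0, 2, 3, 4, 5, 4, 3, 2, 0], [5, 0, 2, 3, 4, 3, 2, 0], [4, 5, 4, 0, 2, 3, 2, 0], [3, 4, 5, 4, 3, 0, 2, 0], [2, 3, 4, 5, 4, 3, 2, 0], [], [], [], [], [], [], [], [], [], [], [0, 2, 3, 4, 5, 4, 3, 2], [2, 3, 4, 5, 0, 2, 3, 4, 2, 3, 0, 2], [2, 3, 4, 5, 4, 0, 2, 3, 0, 2], [2, 3, 4, 5, 4, 3, 0, 2], [0, 2, 3, 4, 5, 4, 3, 0], [3, 4, 5, 0, 2, 3, 4, 2, 3, 0], [3, 4, 5, 4, 0, 2, 3, 0], [0, 2, 3, 4, 5, 4, 2, 0], [4, 5, 0, 2, 3, 4, 2, 0], [0, 2, 3, 4, 5, 3, 2, 0], [0, 2, 3, 4, 3, 2, 0], [5, 0, 2, 3, 2, 0], [0, 2, 3, 2, 0], [4, 5, 4, 0, 2, 0], [5, 0, 2, 0], [0, 2, 0], [3, 4, 5, 4, 3, 0], [4, 5, 4, 0], [5, 0], [0], [], [], [], [], [], [], [], [], [], [], [2, 3, 4, 5, 4, 3, 2], [3, 4, 5, 4, 3], [4, 5, 4], [5], [], [], [], [], [], [], [], [], [], [], [], []]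

theorem n1 : nodeChk chevE6 RF [71] [60] W1 = true := by decide +kernel

def BW1 : List ℕ := []
theorem b1_1 : ∀ i ∈ BW1, i < chevE6.rank := by decide +kernel
theorem b1_2 : ∀ u ∈ ([71] : List ℕ), u < chevE6.nroots := by decide +kernel
theorem b1_3 : ([71] : List ℕ) ∈ RR := by decide +kernel
theorem b1_4 : (([71] : List ℕ).map (act chevE6 BW1)).Perm [71] := by decide +kernel
theorem b1_5 : orthChk chevE6 (([71] : List ℕ).map (act chevE6 BW1)) = true := by decide +kernel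

def W2 : List (List ℕ) := [[], [], [], [], [], [], [], [], [], [], [], [], [], [], [], [], [], [], [], [], [], [], [], [], [], [], [], [2, 3, 4, 3, 2], [4, 2, 3, 2], [3, 4, 3, 2], [], [2, 3, 4, 3], [3, 4, 2, 3], [], [2, 3, 4, 2], [], [], [2, 3, 2], [], [4, 2], [2], [], [3, 4, 3], [4], [], [], [], [], [], [], [], [], [], [], [], [], [], [], [], [], [], [], [], [], [], [], [], [], [], [], [], []]

theorem n2 : nodeChk chevE6 RF [71, 60] [44] W2 = true := by decide +kernel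

def BW2 : List ℕ := [1, 3, 4, 3, 1]
theorem b2_1 : ∀ i ∈ BW2, i < chevE6.rank := by decide +kernel
theorem b2_2 : ∀ u ∈ ([71, 60] : List ℕ), u < chevE6.nroots := by decide +kernel
theorem b2_3 : ([68, 66] : List ℕ) ∈ RR := by decide +kernel
theorem b2_4 : (([71, 60] : List ℕ).map (act chevE6 BW2)).Perm [68, 66] := by decide +kernel
theorem b2_5 : orthChk chevE6 (([71, 60] : List ℕ).map (act chevE6 BW2)) = true := by decide +kernel

def W3 : List (List ℕ) := [[], [], [], [], [], [], [], [], [], [], [], [], [], [], [], [], [], [], [], [], [], [], [], [], [], [], [], [], [], [], [], [], [3], [], [], [], [], [], [], [], [], [], [], [], [], [], [], [], [], [], [], [], [], [], [], [], [], [], [], [], [], [], [], [], [], [], [], [], [], [], [], []]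

theorem n3 : nodeChk chevE6 RF [71, 60, 44] [39] W3 = true := by decide +kernel

def BW3 : List ℕ := [0, 2, 1, 3, 1, 0]
theorem b3_1 : ∀ i ∈ BW3, i < chevE6.rank := by decide +kernel
theorem b3_2 : ∀ u ∈ ([71, 60, 44] : List ℕ), u < chevE6.nroots := by decide +kernel
theorem b3_3 : ([55, 65, 67] : List ℕ) ∈ RR := by decide +kernel
theorem b3_4 : (([71, 60, 44] : List ℕ).map (act chevE6 BW3)).Perm [55, 65, 67] := by decide +kernel
theorem b3_5 : orthChk chevE6 (([71, 60, 44] : List ℕ).map (act chevE6 BW3)) = true := by decide +kernel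

theorem fr0_rel : relChk chevE6 [8, 20, 60, 47] [71, 60, 44, 39] [71, 60, 44] = true := by decide +kernel
theorem fr0_perp : perpChk chevE6 [71, 60, 44, 39] [8, 20, 60, 47] = true := by decide +kernel

def RB0 : List ℕ := [0x29800000000000000000, 0x400000000000, 0x800000000000, 0x1000000000000, 0x2000000000000, 0x4000000000000, 0x8000000000000, 0x10000000000000, 0x20000000000000, 0x40000000000000, 0x80000000000000, 0x2000000000000000, 0x4000000000000000, 0x8000000000000000, 0x10000000000000000, 0x20000000000000000, 0x40000000000000000, 0x80000000000000000, 0x100000000000000000, 0x200000000000000000, 0x400000000000000000, 0x800000000000000000]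
def RC0 : List ℕ := [0x1, 0x2, 0x4, 0x8, 0x10, 0x20, 0x40, 0x80, 0x100, 0x200, 0x400, 0x0, 0x0, 0x0, 0x0, 0x0, 0x800, 0x1000, 0x2000, 0x4000, 0x8000, 0x10000, 0x20000, 0x40000, 0x80000, 0x100000, 0x0, 0x0, 0x0, 0x0, 0x0, 0x0, 0x0, 0x0, 0x0, 0x0, 0x0, 0x0, 0x0, 0x0, 0x0, 0x0, 0x0, 0x0, 0x0, 0x0, 0x0, 0x0, 0x0, 0x0, 0x0, 0x0, 0x0, 0x0, 0x0, 0x0, 0x0, 0x0, 0x0, 0x0, 0x0, 0x0, 0x0, 0x0, 0x0, 0x0, 0x0, 0x0, 0x0, 0x0, 0x0, 0x0, 0x0, 0x200000, 0x0, 0x0, 0x0, 0x0]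
def RD0 : List ℕ := [0x0, 0x0, 0x0, 0x0, 0x0, 0x0, 0x0, 0x0, 0x0, 0x0, 0x0, 0x0, 0x0, 0x0, 0x0, 0x0, 0x0, 0x0, 0x0, 0x0, 0x0, 0x0, 0x0, 0x0, 0x0, 0x0, 0x0, 0x0, 0x0, 0x0, 0x0, 0x0, 0x0, 0x0, 0x0, 0x0, 0x0, 0x0, 0x0, 0x0, 0x0, 0x0, 0x0, 0x0, 0x0, 0x0, 0x2, 0x4, 0x8, 0x10, 0x20, 0x40, 0x80, 0x100, 0x200, 0x400, 0x0, 0x0, 0x0, 0x0, 0x0, 0x800, 0x1000, 0x2000, 0x4000, 0x8000, 0x10000, 0x20000, 0x40000, 0x80000, 0x100000, 0x200000, 0x0, 0x0, 0x0, 0x0, 0x0, 0x200001]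
def RE0 : List ℕ := [0x1, 0x2, 0x4, 0x8, 0x10, 0x20, 0x40, 0x80, 0x100, 0x200, 0x400, 0x10000, 0x20000, 0x40000, 0x80000, 0x100000, 0x200000, 0x400000, 0x800000, 0x1000000, 0x2000000, 0x2000000000000000000]
theorem rk0 : rankChk chevE6 [71] RB0 RC0 RD0 RE0 22 = true := by decide +kernel
theorem sq0 : sqChk chevE6 [71] = true := by decide +kernel
theorem lt0 : ∀ u ∈ ([71] : List ℕ), u < chevE6.nroots := by decide +kernel

def RB1 : List ℕ := [0x1000000000a00000, 0x8000000090000000, 0x20000000420000000, 0x33100000000000000000, 0x1000000000, 0x27040000000000000000, 0x200000042000000000, 0x4000000000, 0x400000090000000000, 0x20000000000, 0x200000000000, 0x800005000000000000, 0x2000000000000, 0x10000000000000, 0x40000000000000, 0x80000000000000, 0x100000000000000, 0x200000000000000, 0x400000000000000, 0x1000000000000000, 0x800000000000000, 0x2000000000000000, 0x8000000000000000,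 0x20000000000000000, 0x4000000000000000, 0x10000000000000000, 0x80000000000000000, 0x200000000000000000, 0x400000000000000000, 0x800000000000000000, 0x40000000000000000, 0x140000000000000000]
def RC1 : List ℕ := [0x1, 0x2, 0x4, 0x8, 0x10, 0x20, 0x40, 0x80, 0x100, 0x200, 0x400, 0x800, 0x1000, 0x2000, 0x4000, 0x8000, 0x10000, 0x20000, 0x0, 0x40000, 0x0, 0x80000, 0x100000, 0x80000, 0x0, 0x0, 0x200000, 0x0, 0x400000, 0x800000, 0x1000000, 0x400000, 0x0, 0x2000000, 0x800000, 0x4000000, 0x0, 0x8000000, 0x0, 0x0, 0x10000000, 0x0, 0x8000000, 0x10000000, 0x0, 0x0, 0x0, 0x0, 0x20000000, 0x0, 0x20000000, 0x0, 0x0, 0x0, 0x0, 0x0, 0x0, 0x0, 0x0, 0x0, 0x0, 0x0, 0x0, 0x0, 0x0, 0x0, 0x0, 0x0, 0x0, 0x0, 0x0, 0x0, 0x40000000, 0x0, 0x80000000, 0x0, 0x80000000, 0xc0000000]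
def RD1 : List ℕ := [0x0, 0x0, 0x0, 0x0, 0x0, 0x0, 0x0, 0x0, 0x0, 0x0, 0x0, 0x0, 0x0, 0x0, 0x0, 0x0, 0x0, 0x0, 0x0, 0x0, 0x0, 0x0, 0x0, 0x80001, 0x0, 0x0, 0x0, 0x0, 0x0, 0x0, 0x0, 0x400002, 0x0, 0x0, 0x800004, 0x0, 0x10, 0x0, 0x80, 0x0, 0x0, 0x200, 0x8000040, 0x10000100, 0x0, 0x400, 0x0, 0x0, 0x0, 0x1000, 0x20000800, 0x0, 0x2000, 0x0, 0x4000, 0x8000, 0x10000, 0x20000, 0x40000, 0x100000, 0x80000, 0x200000, 0x1000000, 0x400000, 0x2000000, 0x800000, 0x40000000, 0x4000000, 0xc0000000, 0x8000000, 0x10000000, 0x20000000, 0x0, 0x0, 0x0, 0x0, 0x80000028, 0x40000020]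
def RE1 : List ℕ := [0x1, 0x2, 0x4, 0x8, 0x10, 0x20, 0x40, 0x80, 0x100, 0x200, 0x400, 0x800, 0x1000, 0x2000, 0x4000, 0x8000, 0x10000, 0x20000, 0x80000, 0x200000, 0x400000, 0x4000000, 0x10000000, 0x20000000, 0x40000000, 0x200000000, 0x800000000, 0x2000000000, 0x10000000000, 0x1000000000000, 0x1000000000000000000, 0x4000000000000000000]
theorem rk1 : rankChk chevE6 [68, 66] RB1 RC1 RD1 RE1 32 = true := by decide +kernel
theorem sq1 : sqChk chevE6 [68, 66] = true := by decide +kernel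
theorem lt1 : ∀ u ∈ ([68, 66] : List ℕ), u < chevE6.nroots := by decide +kernel

def RB2 : List ℕ := [0x400400120000500400, 0x80200a000048002000, 0x20000200004000, 0x10000000820000000, 0x13080000000000000000, 0x40000400008000, 0x37020000000000000000, 0x100000041000000000, 0x8000000000, 0x80000000000, 0x400000120000000000, 0x800000000000, 0x4000000000000, 0x80000a000000000000, 0x20000000000000, 0x40000000000000, 0x26000080000000000000, 0x40100002000000000, 0x200200004000000000, 0x10000000000, 0x400400020000000000, 0x800000000000000, 0x400400100000000000, 0x200000000000, 0x1000000000000000, 0x1000000000000, 0x802002000000000000, 0x4000000000000000, 0x10000000000000000, 0x802008000000000000, 0x10000000000000, 0x8000000000000000, 0x100000000000000000, 0x40000000000000000, 0x200000000000000000, 0x20080000000000000, 0xa0000000000000000, 0x20000000000000000]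
def RC2 : List ℕ := [0x1, 0x2, 0x4, 0x8, 0x10, 0x20, 0x40, 0x80, 0x100, 0x200, 0x400, 0x800, 0x1000, 0x2000, 0x4000, 0x8000, 0x10000, 0x20000, 0x40000, 0x80000, 0x100000, 0x200000, 0x400000, 0x800000, 0x1000000, 0x0, 0x2000000, 0x4000000, 0x8000000, 0x10000000, 0x20000000, 0x40000000, 0x80000000, 0x4000, 0x8000, 0x10000000, 0x100000000, 0x200000000, 0x400000000, 0x0, 0x0, 0x500400, 0x100000000, 0x0, 0x500400, 0x0, 0x0, 0x0, 0x0, 0x24002000, 0x0, 0x24002000, 0x0, 0x0, 0x0, 0x0, 0x200000000, 0x400000000, 0x500400, 0x0, 0x0, 0x24002000, 0x0, 0x0, 0x0, 0x0, 0x0, 0x0, 0x0, 0x0, 0x0, 0x0, 0x800000000, 0x0, 0x1000000000, 0x2000000000, 0x800000000, 0x1000000000]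
def RD2 : List ℕ := [0x0, 0x0, 0x0, 0x0, 0x0, 0x0, 0x0, 0x0, 0x0, 0x0, 0x0, 0x0, 0x0, 0x0, 0x0, 0x0, 0x0, 0x0, 0x0, 0x0, 0x0, 0x0, 0x0, 0x0, 0x0, 0x0, 0x0, 0x0, 0x0, 0x0, 0x0, 0x0, 0x0, 0x4004, 0x8020, 0x10000008, 0x0, 0x0, 0x0, 0x100, 0x80000, 0x400001, 0x100000080, 0x200, 0x100001, 0x800000, 0x0, 0x800, 0x2000000, 0x20000002, 0x1000, 0x4000002, 0x40000000, 0x4000, 0x8000, 0x2800000000, 0x200020000, 0x400040000, 0x401, 0x200000, 0x1000000, 0x2002, 0x8000000, 0x80000000, 0x10000000, 0x2000000000, 0x200000000, 0x3000000000, 0x100000000, 0x400000000, 0x500400, 0x24002000, 0x0, 0x3800010050, 0x0, 0x0, 0x800010040, 0x1000000050]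
def RE2 : List ℕ := [0x1, 0x2, 0x4, 0x8, 0x10, 0x20, 0x40, 0x80, 0x100, 0x200, 0x400, 0x800, 0x1000, 0x2000, 0x4000, 0x8000, 0x10000, 0x20000, 0x40000, 0x80000, 0x100000, 0x200000, 0x400000, 0x800000, 0x1000000, 0x4000000, 0x8000000, 0x10000000, 0x20000000, 0x40000000, 0x80000000, 0x100000000, 0x1000000000, 0x2000000000, 0x4000000000, 0x1000000000000000000, 0x4000000000000000000, 0x8000000000000000000]
theorem rk2 : rankChk chevE6 [55, 65, 67] RB2 RC2 RD2 RE2 38 = true := by decide +kernel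
theorem sq2 : sqChk chevE6 [55, 65, 67] = true := by decide +kernel
theorem lt2 : ∀ u ∈ ([55, 65, 67] : List ℕ), u < chevE6.nroots := by decide +kernel

/-- The rank of `y - 1` for the representatives. -/
def rkF : List ℕ → ℕ
  | [71] => 22
  | [68, 66] => 32
  | [55, 65, 67] => 38
  | _ => 0

section

variable {F : Type*} [Field F] [CharP F 2] (ax : Ax chevE6 F)

theorem step {m : ℕ} (ih : NN ax RR [] m) : NN ax RR [] (m + 1) := by
  have N71_60_44_39 : NN ax RR [71, 60, 44, 39] (m + 1) := frame_step ax tab_E6 sl (g := PP ax [8, 20, 60, 47]) (A' := []) (a := 71) (b := 60) (c := 44) (d := 39)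
    (PP_mem ax tab_E6 _ (by decide +kernel)) (rel_of_chk ax (by decide +kernel) (by decide +kernel) (by decide +kernel) fr0_rel)
    (comm_of_perpChk ax tab_E6 sl (by decide +kernel) fr0_perp) (by decide +kernel) ih
  have N71_60_44 : NN ax RR [71, 60, 44] (m + 1) := by
    refine node_step ax tab_E6 sl tab2_E6 cor (Θ := [39]) (fun v => W3.getD v []) (hW_of_chk tab_E6 tabok b3_2 n3)
      (cl_of_word2 ax tab_E6 tab2_E6 sl BW3 b3_1 b3_2 b3_3 b3_4 (orthAll_of_chk b3_5)) ?_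
    intro θ hθ
    simp only [List.mem_cons, List.not_mem_nil, or_false] at hθ
    rcases hθ with rfl
    · exact N71_60_44_39
  have N71_60 : NN ax RR [71, 60] (m + 1) := by
    refine node_step ax tab_E6 sl tab2_E6 cor (Θ := [44]) (fun v => W2.getD v []) (hW_of_chk tab_E6 tabok b2_2 n2)
      (cl_of_word2 ax tab_E6 tab2_E6 sl BW2 b2_1 b2_2 b2_3 b2_4 (orthAll_of_chk b2_5)) ?_
    intro θ hθ
    simp only [List.mem_cons, List.not_mem_nil, or_false] at hθ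
    rcases hθ with rfl
    · exact N71_60_44
  have N71 : NN ax RR [71] (m + 1) := by
    refine node_step ax tab_E6 sl tab2_E6 cor (Θ := [60]) (fun v => W1.getD v []) (hW_of_chk tab_E6 tabok b1_2 n1)
      (cl_of_word2 ax tab_E6 tab2_E6 sl BW1 b1_1 b1_2 b1_3 b1_4 (orthAll_of_chk b1_5)) ?_
    intro θ hθ
    simp only [List.mem_cons, List.not_mem_nil, or_false] at hθ
    rcases hθ with rfl
    · exact N71_60
  have N : NN ax RR [] (m + 1) := by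
    refine node_step ax tab_E6 sl tab2_E6 cor (Θ := [71]) (fun v => W0.getD v []) (hW_of_chk tab_E6 tabok b0_2 n0)
      (cl_of_word2 ax tab_E6 tab2_E6 sl BW0 b0_1 b0_2 b0_3 b0_4 (orthAll_of_chk b0_5)) ?_
    intro θ hθ
    simp only [List.mem_cons, List.not_mem_nil, or_false] at hθ
    rcases hθ with rfl
    · exact N71
  exact N

theorem all_orth (L : List ℕ) (hL : OrthAll chevE6 L) : Cl ax RR (PP ax L) := by
  have key : ∀ m, NN ax RR [] m := by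
    intro m
    induction m with
    | zero =>
      intro V _ hlen
      have hV : V = [] := by simpa using hlen
      subst hV
      exact ⟨[], by simp [RR], 1, Subgroup.one_mem _, by simp⟩
    | succ m ih => exact step ax ih
  exact key L.length L (by simpa using hL) (by simp)

theorem hyp : Hyp ax Reps rkF where
  lt := by
    intro ρ hρ
    simp only [Reps, List.mem_cons, List.not_mem_nil, or_false] at hρ
    rcases hρ with rfl | rfl | rfl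
    · exact lt0
    · exact lt1
    · exact lt2
  sq := by
    intro ρ hρ
    simp only [Reps, List.mem_cons, List.not_mem_nil, or_false] at hρ
    rcases hρ with rfl | rfl | rfl
    · exact sq_of_chk ax lt0 sq0
    · exact sq_of_chk ax lt1 sq1
    · exact sq_of_chk ax lt2 sq2
  rank := by
    intro ρ hρ
    simp only [Reps, List.mem_cons, List.not_mem_nil, or_false] at hρ
    rcases hρ with rfl | rfl | rfl
    · exact rank_of_chk ax lt0 rk0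
    · exact rank_of_chk ax lt1 rk1
    · exact rank_of_chk ax lt2 rk2
  pos := by decide +kernel
  inj := by decide +kernel
  all := all_orth ax

end

end Cfsg.Agent.Lib.InvE.DataE6
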