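import Cfsg.Agent.Lib.InvE.SLChk

/-!
The conjugacy classes of involutions from the recursion and the ranks.
-/

set_option autoImplicit false
set_option linter.unusedSectionVars false
set_option linter.unusedVariables false
set_option linter.ambiguousOpen false

namespace Cfsg.Agent.Lib.InvE.Final

open scoped MatrixGroups Matrix
open Cfsg Lie ChevalleyDatum
open Cfsg.Agent.Lib.Chev
open Tables Tables2 Tables3 Raise Basic AxBasic Torus Products Products2 Mono1 Mono2 Mono3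
open Cfsg.Agent.Lib.Twisted.Fact Cfsg.Agent.Lib.InvE.Red Cfsg.Agent.Lib.InvE.Fusion Cfsg.Agent.Lib.InvE.Bits
open Cfsg.Agent.Lib.InvE.Tree

variable {D : ChevalleyDatum} {F : Type*} [Field F]

/-- The base of the recursion, up to the order of the roots. -/
theorem cl_of_word2 [CharP F 2] (ax : Ax D F) (h : Tab D) (h2 : Tab2 D) (hs : SL D) {R : List (List ℕ)} {A ρ : List ℕ}
    (l : List ℕ) (hl : ∀ i ∈ l, i < D.rank) (hA : ∀ u ∈ A, u < D.nroots) (hρ : ρ ∈ R)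
    (hp : (A.map (act D l)).Perm ρ) (hO : OrthAll D (A.map (act D l))) : Cl ax R (PP ax A) :=
  ⟨ρ, hρ, nw D ax l, nw_mem_group ax h h2 hl, by
    rw [nw_conj_PP ax h hl A hA, PP_perm ax h hs hp hO]⟩

/-- Orthogonality as a check. -/
def orthChk (D : ChevalleyDatum) : List ℕ → Bool
  | [] => true
  | a :: L => decide (a < D.nroots) && (L.all fun b => pairN D a b D.rank == 0) && orthChk D L

lemma orthAll_of_chk {L : List ℕ} (hc : orthChk D L = true) : OrthAll D L := by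
  induction L with
  | nil => exact ⟨by simp, List.Pairwise.nil⟩
  | cons a L ih =>
    simp only [orthChk, Bool.and_eq_true, decide_eq_true_eq, List.all_eq_true, beq_iff_eq] at hc
    obtain ⟨⟨h1, h3⟩, h4⟩ := hc
    have := ih h4
    refine ⟨?_, List.pairwise_cons.mpr ⟨fun b hb => by rw [pair_eq_pairN]; exact h3 b hb, this.orth⟩⟩
    intro u hu
    rcases List.mem_cons.mp hu with rfl | hu'
    · exact h1
    · exact this.lt u hu'

/-- The matrix of the product for a list. -/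
def mat (ax : Ax D F) (ρ : List ℕ) : Matrix D.Idx D.Idx F := ((PP ax ρ : GL D.Idx F) : Matrix D.Idx D.Idx F)

/-- What is needed about the list of representatives. -/
structure Hyp (ax : Ax D F) (Reps : List (List ℕ)) (rk : List ℕ → ℕ) : Prop where
  lt : ∀ ρ ∈ Reps, ∀ u ∈ ρ, u < D.nroots
  sq : ∀ ρ ∈ Reps, PP ax ρ * PP ax ρ = 1
  rank : ∀ ρ ∈ Reps, (mat ax ρ - 1).rank = rk ρ
  pos : ∀ ρ ∈ Reps, rk ρ ≠ 0
  inj : ∀ ρ₁ ∈ Reps, ∀ ρ₂ ∈ Reps, rk ρ₁ = rk ρ₂ → ρ₁ = ρ₂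
  all : ∀ L, OrthAll D L → Cl ax ([] :: Reps) (PP ax L)

section

variable [CharP F 2] {ax : Ax D F} (h : Tab D) (h2 : Tab2 D) (hs : SL D) {Reps : List (List ℕ)} {rk : List ℕ → ℕ}

omit [CharP F 2] in
lemma eq_PP_of_mem {y : GL D.Idx F} (hy : (y : Matrix D.Idx D.Idx F) ∈ Reps.map (mat ax)) :
    ∃ ρ ∈ Reps, y = PP ax ρ := by
  obtain ⟨ρ, hρ, e⟩ := List.mem_map.mp hy
  exact ⟨ρ, hρ, Units.ext e.symm⟩

omit [CharP F 2] in
lemma PP_ne_one (H : Hyp ax Reps rk) {ρ : List ℕ} (hρ : ρ ∈ Reps) : PP ax ρ ≠ 1 := by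
  intro e
  have h1 := H.rank ρ hρ
  rw [mat, e, Units.val_one, sub_self, Matrix.rank_zero] at h1
  exact H.pos ρ hρ h1.symm

include h in
theorem part_a (H : Hyp ax Reps rk) (y : GL D.Idx F) (hy : (y : Matrix D.Idx D.Idx F) ∈ Reps.map (mat ax)) :
    y ∈ D.group F ∧ orderOf y = 2 := by
  obtain ⟨ρ, hρ, rfl⟩ := eq_PP_of_mem hy
  refine ⟨PP_mem ax h ρ (H.lt ρ hρ), ?_⟩
  apply orderOf_eq_prime (p := 2)
  · rw [pow_two]
    exact H.sq ρ hρ
  · exact PP_ne_one H hρ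

include h h2 hs in
theorem part_b [Fintype F] (H : Hyp ax Reps rk) (g : GL D.Idx F) (hg : g ∈ D.group F) (ho : orderOf g = 2) :
    ∃ y ∈ D.group F, (y : Matrix D.Idx D.Idx F) ∈ Reps.map (mat ax) ∧ ∃ k ∈ D.group F, k * g * k⁻¹ = y := by
  have hgg : g * g = 1 := by
    rw [← pow_two, ← ho]
    exact pow_orderOf_eq_one g
  have hg1 : g ≠ 1 := by
    rintro rfl
    rw [orderOf_one] at ho
    omega
  obtain ⟨ρ, hρ, k, hk, e⟩ := main_conj ax h hs h2 H.all hg hgg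
  rcases List.mem_cons.mp hρ with rfl | hρ'
  · exfalso
    rw [PP_nil] at e
    apply hg1
    have : g = k⁻¹ * (k * g * k⁻¹) * k := by group
    rw [this, e]
    group
  · exact ⟨PP ax ρ, PP_mem ax h ρ (H.lt ρ hρ'), List.mem_map.mpr ⟨ρ, hρ', rfl⟩, k, hk, e⟩

omit [CharP F 2] in
theorem part_c [CharP F 2] (H : Hyp ax Reps rk) (y₁ y₂ : GL D.Idx F) (h1 : (y₁ : Matrix D.Idx D.Idx F) ∈ Reps.map (mat ax))
    (h3 : (y₂ : Matrix D.Idx D.Idx F) ∈ Reps.map (mat ax)) (hc : ∃ k : GL D.Idx F, k * y₁ * k⁻¹ = y₂) :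
    (y₁ : Matrix D.Idx D.Idx F) = y₂ := by
  obtain ⟨ρ₁, hρ₁, rfl⟩ := eq_PP_of_mem h1
  obtain ⟨ρ₂, hρ₂, rfl⟩ := eq_PP_of_mem h3
  obtain ⟨k, e⟩ := hc
  have e2 := rank_conj F k (PP ax ρ₁)
  rw [e] at e2
  have e3 : rk ρ₁ = rk ρ₂ := by
    rw [← H.rank ρ₁ hρ₁, ← H.rank ρ₂ hρ₂]
    exact e2.symm
  rw [H.inj ρ₁ hρ₁ ρ₂ hρ₂ e3]

end

end Cfsg.Agent.Lib.InvE.Final
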