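import Cfsg.Agent.Lib.InvE.Tree

/-!
The simply laced facts from a kernel check.
-/

set_option autoImplicit false
set_option linter.unusedSectionVars false
set_option linter.unusedVariables false
set_option linter.ambiguousOpen false

namespace Cfsg.Agent.Lib.InvE.Tree

open scoped MatrixGroups Matrix
open Cfsg Lie ChevalleyDatum
open Cfsg.Agent.Lib.Chev
open Tables Tables2 Tables3 Raise Basic AxBasic Torus Products Products2 Mono1 Mono2 Mono3
open Cfsg.Agent.Lib.Twisted.Fact Cfsg.Agent.Lib.InvE.Red Cfsg.Agent.Lib.InvE.Fusion Cfsg.Agent.Lib.InvE.Bits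

variable {D : ChevalleyDatum}

/-- The entry of the chain table when all entries are singletons. -/
def ShortR (D : ChevalleyDatum) (r : ℕ) : Prop :=
  ∀ e ∈ (D.chain.getD r #[]).toList, ∃ k M, e.2.toList = [(k, M)] ∧ M % 2 = 1

lemma entry_length {r : ℕ} (h : ShortR D r) (s : ℕ) : (D.chainEntry r s).length ≤ 1 := by
  unfold chainEntry
  split
  · simp
  · rename_i e he
    obtain ⟨k, M, h1, -⟩ := h e (List.mem_of_find?_eq_some he)
    rw [h1]
    simp

lemma entry_nil {r s : ℕ} (h : ∀ e ∈ (D.chain.getD r #[]).toList, e.1 ≠ s) : D.chainEntry r s = [] := by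
  unfold chainEntry
  have : (D.chain.getD r #[]).toList.find? (fun e => decide (e.1 = s)) = none := by
    rw [List.find?_eq_none]
    intro e he
    simpa using h e he
  rw [this]

lemma entry_cons {r s : ℕ} (h : ShortR D r) (hs : ∃ e ∈ (D.chain.getD r #[]).toList, e.1 = s) :
    ∃ e ∈ (D.chain.getD r #[]).toList, e.1 = s ∧ ∃ k M, D.chainEntry r s = [(k, M)] ∧ e.2.toList = [(k, M)] ∧ M % 2 = 1 := by
  have hf : ((D.chain.getD r #[]).toList.find? (fun e => decide (e.1 = s))).isSome := by
    rw [List.find?_isSome]
    obtain ⟨e, he, e1⟩ := hs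
    exact ⟨e, he, by simpa using e1⟩
  obtain ⟨e, he⟩ := Option.isSome_iff_exists.mp hf
  have h1 := List.mem_of_find?_eq_some he
  have h3 : e.1 = s := by simpa using List.find?_some he
  obtain ⟨k, M, h4, h5⟩ := h e h1
  refine ⟨e, h1, h3, k, M, ?_, h4, h5⟩
  unfold chainEntry
  rw [he]
  exact h4

lemma commTerms_of_entry {r s k : ℕ} {M : ℤ} (h1 : D.chainEntry r s = [(k, M)]) (h2 : (D.chainEntry s r).length ≤ 1) :
    D.commTerms r s = [(k, M, 1, 1)] := by
  have a1 : D.chainRoot r s 1 = some k := by simp [chainRoot, h1]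
  have a2 : D.chainRoot r s 2 = none := by simp [chainRoot, h1]
  have a3 : D.chainRoot r s 3 = none := by simp [chainRoot, h1]
  have a4 : D.chainRoot s r 2 = none := by
    simp only [chainRoot, Option.map_eq_none_iff]
    exact List.getElem?_eq_none (by omega)
  have a5 : D.chainRoot s r 3 = none := by
    simp only [chainRoot, Option.map_eq_none_iff]
    exact List.getElem?_eq_none (by omega)
  have a6 : D.chainM r s 1 = M := by simp [chainM, h1]
  unfold commTerms
  simp [a1, a2, a3, a4, a5, a6]

lemma commTerms_of_nil {r s : ℕ} (h1 : D.chainEntry r s = []) (h2 : (D.chainEntry s r).length ≤ 1) :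
    D.commTerms r s = [] := by
  have a1 : ∀ i, D.chainRoot r s i = none := by simp [chainRoot, h1]
  have a4 : D.chainRoot s r 2 = none := by
    simp only [chainRoot, Option.map_eq_none_iff]
    exact List.getElem?_eq_none (by omega)
  have a5 : D.chainRoot s r 3 = none := by
    simp only [chainRoot, Option.map_eq_none_iff]
    exact List.getElem?_eq_none (by omega)
  unfold commTerms
  simp [a1, a4, a5]

/-- Evaluate a natural number before using it. -/
def forceNat {α : Type} (n : ℕ) (f : ℕ → α) : α :=
  match n with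
  | 0 => f 0
  | m + 1 => f (m + 1)

lemma forceNat_eq {α : Type} (n : ℕ) (f : ℕ → α) : forceNat n f = f n := by
  cases n <;> rfl

/-- The mask of the keys of the chain entries. -/
def keysMask (L : List (ℕ × Array (ℕ × ℤ))) : ℕ := L.foldr (fun e acc => Nat.lor (2 ^ e.1) acc) 0

/-- The mask of the first values of the chain entries. -/
def valsMask (L : List (ℕ × Array (ℕ × ℤ))) : ℕ :=
  L.foldr (fun e acc => Nat.lor (match e.2.toList with
    | x :: _ => 2 ^ x.1
    | [] => 0) acc) 0

lemma mem_keysMask {L : List (ℕ × Array (ℕ × ℤ))} {s : ℕ} (h : (keysMask L).testBit s = true) : ∃ e ∈ L, e.1 = s := by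
  induction L with
  | nil => simp [keysMask] at h
  | cons e L ih =>
    have h1 : keysMask (e :: L) = 2 ^ e.1 ||| keysMask L := rfl
    rw [h1, Nat.testBit_or, Bool.or_eq_true] at h
    rcases h with h | h
    · rw [Nat.testBit_two_pow] at h
      exact ⟨e, by simp, by simpa using h⟩
    · obtain ⟨e', he', e1⟩ := ih h
      exact ⟨e', by simp [he'], e1⟩

lemma mem_valsMask {L : List (ℕ × Array (ℕ × ℤ))} {s : ℕ} (h : (valsMask L).testBit s = true) :
    ∃ e ∈ L, e.2.toList.head?.map Prod.fst = some s := by
  induction L with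
  | nil => simp [valsMask] at h
  | cons e L ih =>
    have h1 : valsMask (e :: L) = (match e.2.toList with
      | x :: _ => 2 ^ x.1
      | [] => 0) ||| valsMask L := rfl
    rw [h1, Nat.testBit_or, Bool.or_eq_true] at h
    rcases h with h | h
    · cases hL : e.2.toList with
      | nil =>
        rw [hL] at h
        simp at h
      | cons x L' =>
        rw [hL] at h
        simp only [Nat.testBit_two_pow, decide_eq_true_eq] at h
        exact ⟨e, by simp, by rw [hL]; simp [h]⟩
    · obtain ⟨e', he', e1⟩ := ih h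
      exact ⟨e', by simp [he'], e1⟩

/-- The dot product through packed tables. -/
def dotY (T Y l r s : ℕ) : ℤ := sumRec (fun j => coefT T l s j * coefT Y l r j) l

/-- The test for the pair `(r, s)`. -/
def pairTest (D : ChevalleyDatum) (T Y l r K V s : ℕ) : Bool :=
  forceNat (dotY T Y l r s + 2).toNat fun q =>
    if Nat.beq s r then Nat.beq q 4 else
      ((Nat.beq q 0 && Nat.beq s (D.neg r)) ||
        (Nat.beq q 2) ||
        (Nat.beq q 1 && K.testBit s) ||
        (Nat.beq q 3 && V.testBit s))

/-- Equality of integers. -/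
def intB : ℤ → ℤ → Bool
  | .ofNat a, .ofNat b => Nat.beq a b
  | .negSucc a, .negSucc b => Nat.beq a b
  | _, _ => false

lemma intB_spec {a b : ℤ} (h : intB a b = true) : a = b := by
  cases a <;> cases b <;> simp only [intB, reduceCtorEq] at h ⊢
  all_goals rw [Nat.eq_of_beq_eq_true h]

/-- The check for the simply laced facts. -/
def slChk (D : ChevalleyDatum) (T Y l n : ℕ) : Bool :=
  allBelow n fun r =>
    ((D.chain.getD r #[]).toList.all fun e =>
      Nat.blt e.1 n && Nat.beq (dotY T Y l r e.1 + 2).toNat 1 &&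
        (match e.2.toList with
          | [x] => Nat.beq (x.2.natAbs % 2) 1
          | _ => false)) &&
    forceNat (keysMask (D.chain.getD r #[]).toList) fun K =>
      forceNat (valsMask (D.chain.getD r #[]).toList) fun V =>
        allBelow n (pairTest D T Y l r K V)

/-- The check for the packed Cartan matrix. -/
def cChk (D : ChevalleyDatum) (C l : ℕ) : Bool :=
  allBelow l fun i => allBelow l fun j => intB (coefT C l i j) (D.cartan i (D.simple j))

/-- The check for the packed pairing with the fundamental roots. -/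
def yChk (T C Y l n : ℕ) : Bool :=
  allBelow n fun r => allBelow l fun j =>
    intB (coefT Y l r j) (sumRec (fun i => coefT T l r i * coefT C l i j) l)

/-- The check for the symmetry of the Cartan matrix. -/
def cartanSymChk (D : ChevalleyDatum) : Bool :=
  allBelow D.rank fun i => allBelow D.rank fun j => D.cartan i (D.simple j) == D.cartan j (D.simple i)

theorem pair_symm (h : Tab D) (hc : CorootEq D) (hC : cartanSymChk D = true) {r s : ℕ} (hr : r < D.nroots) (hs : s < D.nroots) :
    pair D r s = pair D s r := by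
  rw [pair_eq_lin hc hr, pair_eq_lin hc hs]
  simp only [lin]
  have e1 : ∀ i ∈ Finset.range D.rank, D.cartan i s * coef D r i =
      ∑ j ∈ Finset.range D.rank, coef D s j * D.cartan i (D.simple j) * coef D r i := by
    intro i hi
    rw [h.cartan_lin i (Finset.mem_range.mp hi) s hs, Finset.sum_mul]
  have e2 : ∀ i ∈ Finset.range D.rank, D.cartan i r * coef D s i =
      ∑ j ∈ Finset.range D.rank, coef D r j * D.cartan i (D.simple j) * coef D s i := by
    intro i hi
    rw [h.cartan_lin i (Finset.mem_range.mp hi) r hr, Finset.sum_mul]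
  rw [Finset.sum_congr rfl e1, Finset.sum_congr rfl e2, Finset.sum_comm]
  apply Finset.sum_congr rfl
  intro i hi
  apply Finset.sum_congr rfl
  intro j hj
  have h1 := allBelow_spec (allBelow_spec hC i (Finset.mem_range.mp hi)) j (Finset.mem_range.mp hj)
  have h3 : D.cartan i (D.simple j) = D.cartan j (D.simple i) := by simpa using h1
  rw [h3]
  ring

/-- The packed pairing is the pairing. -/
lemma coefY_eq (hc : CorootEq D) {T C Y l n : ℕ} (hT : CoefData.coefOf D.nroots = T) (hl : D.rank = l) (hn : D.nroots = n)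
    (hC : cChk D C l = true) (hY : yChk T C Y l n = true) {r j : ℕ} (hr : r < D.nroots) (hj : j < D.rank) :
    coefT Y l r j = pair D r (D.simple j) := by
  subst hT hl hn
  have h1 := intB_spec (allBelow_spec (allBelow_spec hY r hr) j hj)
  rw [h1, pair_eq_lin hc hr, lin, sumRec_eq]
  apply Finset.sum_congr rfl
  intro i hi
  have h3 := intB_spec (allBelow_spec (allBelow_spec hC i (Finset.mem_range.mp hi)) j hj)
  rw [h3, mul_comm]
  rfl

lemma dotY_eq (h : Tab D) (hc : CorootEq D) {T C Y l n : ℕ} (hT : CoefData.coefOf D.nroots = T) (hl : D.rank = l)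
    (hn : D.nroots = n) (hC : cChk D C l = true) (hY : yChk T C Y l n = true) {r s : ℕ} (hr : r < D.nroots)
    (hs : s < D.nroots) : dotY T Y l r s = pair D r s := by
  subst hT hl hn
  rw [pair_lin h r hs, dotY, sumRec_eq]
  apply Finset.sum_congr rfl
  intro j hj
  rw [coefY_eq hc rfl rfl rfl hC hY hr (Finset.mem_range.mp hj)]
  rfl

/-- The simply laced facts. -/
theorem sl_of_chk (h : Tab D) (hc : CorootEq D) {T C Y l n : ℕ} (hT : CoefData.coefOf D.nroots = T) (hl : D.rank = l)
    (hn : D.nroots = n) (hC0 : cartanSymChk D = true) (hC : cChk D C l = true) (hY : yChk T C Y l n = true)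
    (hS : slChk D T Y l n = true) : SL D := by
  have hd : ∀ {r s}, r < D.nroots → s < D.nroots → dotY T Y l r s = pair D r s := fun hr hs =>
    dotY_eq h hc hT hl hn hC hY hr hs
  have hS' : ∀ r, r < D.nroots → _ := fun r hr => allBelow_spec hS r (hn ▸ hr)
  simp only [Bool.and_eq_true, forceNat_eq] at hS'
  have hs1 : ∀ r, r < D.nroots → ∀ e ∈ (D.chain.getD r #[]).toList, e.1 < D.nroots ∧ pair D r e.1 = -1 ∧
      ∃ k M, e.2.toList = [(k, M)] ∧ M % 2 = 1 := by
    intro r hr e he
    have h3 := List.all_eq_true.mp (hS' r hr).1 e he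
    simp only [Bool.and_eq_true] at h3
    obtain ⟨⟨h4, h5⟩, h6⟩ := h3
    have h4' : e.1 < D.nroots := by
      rw [hn]
      simpa using h4
    have h5' := Nat.eq_of_beq_eq_true h5
    rw [hd hr h4'] at h5'
    refine ⟨h4', by omega, ?_⟩
    revert h6
    cases hL : e.2.toList with
    | nil => simp
    | cons x L =>
      cases L with
      | nil =>
        intro h6
        refine ⟨x.1, x.2, rfl, ?_⟩
        have h7 := Nat.eq_of_beq_eq_true h6
        omega
      | cons y L => simp
  have hshort : ∀ r, r < D.nroots → ShortR D r := fun r hr e he => (hs1 r hr e he).2.2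
  have hp : ∀ r s, r < D.nroots → s < D.nroots → pairTest D T Y l r
      (keysMask (D.chain.getD r #[]).toList) (valsMask (D.chain.getD r #[]).toList) s = true := by
    intro r s hr hs'
    exact allBelow_spec (hS' r hr).2 s (hn ▸ hs')
  simp only [pairTest, forceNat_eq] at hp
  have hs2 : ∀ r s, r < D.nroots → s < D.nroots → s ≠ r → s ≠ D.neg r →
      (pair D r s = -1 ∨ pair D r s = 0 ∨ pair D r s = 1) ∧
      (pair D r s = -1 → ∃ e ∈ (D.chain.getD r #[]).toList, e.1 = s) ∧
      (pair D r s = 1 → ∃ e ∈ (D.chain.getD r #[]).toList, e.2.toList.head?.map Prod.fst = some s) := by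
    intro r s hr hs' h1 h3
    have h5 := hp r s hr hs'
    have hsr : Nat.beq s r = false := by
      rw [Bool.eq_false_iff]
      exact fun e => h1 (Nat.eq_of_beq_eq_true e)
    have hsn : Nat.beq s (D.neg r) = false := by
      rw [Bool.eq_false_iff]
      exact fun e => h3 (Nat.eq_of_beq_eq_true e)
    rw [hsr] at h5
    simp only [Bool.false_eq_true, if_false, hsn, Bool.and_false, Bool.false_or, Bool.or_eq_true, Bool.and_eq_true] at h5
    rw [hd hr hs'] at h5
    rcases h5 with ((h5 | ⟨h5, h6⟩) | ⟨h5, h6⟩)
    · have := Nat.eq_of_beq_eq_true h5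
      refine ⟨by omega, fun e => by omega, fun e => by omega⟩
    · have := Nat.eq_of_beq_eq_true h5
      refine ⟨by omega, fun _ => mem_keysMask h6, fun e => by omega⟩
    · have := Nat.eq_of_beq_eq_true h5
      refine ⟨by omega, fun e => by omega, fun _ => mem_valsMask h6⟩
  have hself : ∀ r, r < D.nroots → pair D r r = 2 := by
    intro r hr
    have h5 := hp r r hr hr
    have hrr : Nat.beq r r = true := by simp
    rw [hrr] at h5
    simp only [if_true] at h5
    rw [hd hr hr] at h5
    have := Nat.eq_of_beq_eq_true h5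
    omega
  refine ⟨hself, fun r s hr hs' => pair_symm h hc hC0 hr hs', fun r s hr hs' h1 h3 => (hs2 r s hr hs' h1 h3).1, ?_, ?_, ?_⟩
  · intro r s hr hs' h1 h3 hp
    apply commTerms_of_nil _ (entry_length (hshort s hs') r)
    apply entry_nil
    intro e he hes
    exact hp (hes ▸ (hs1 r hr e he).2.1)
  · intro r s hr hs' h1 h3 hp
    obtain ⟨e, he, -, k, M, h5, -, h6⟩ := entry_cons (hshort r hr) ((hs2 r s hr hs' h1 h3).2.1 hp)
    exact ⟨k, M, commTerms_of_entry h5 (entry_length (hshort s hs') r), h6⟩
  · intro r v hr hv h1 hp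
    have hvn : v ≠ D.neg r := by
      rintro rfl
      have := pair_neg h r hr
      rw [hself r hr] at this
      omega
    obtain ⟨e, he, e1⟩ := (hs2 r v hr hv h1 hvn).2.2 hp
    obtain ⟨h3, h4, k, M, h5, h6⟩ := hs1 r hr e he
    rw [h5] at e1
    simp only [List.head?_cons, Option.map_some, Option.some.injEq] at e1
    subst e1
    have hne : e.1 ≠ r := by
      intro he1
      rw [he1, hself r hr] at h4
      omega
    have hnn : e.1 ≠ D.neg r := by
      intro he1
      have := pair_neg h r hr
      rw [hself r hr, ← he1, h4] at this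
      omega
    refine ⟨e.1, h3, hne, hnn, ?_⟩
    obtain ⟨e', he', e2, k', M', h7, h8, h9⟩ := entry_cons (hshort r hr) ⟨e, he, rfl⟩
    have hk : k' = k := by
      have q1 : ((k, M), 0) ∈ e.2.toList.zipIdx := by rw [h5]; simp
      have q2 : ((k', M'), 0) ∈ e'.2.toList.zipIdx := by rw [h8]; simp
      apply eq_of_coef_eq h (h.chain_lt r hr e' he' _ q2) (h.chain_lt r hr e he _ q1)
      intro i hi
      have a := h.chain_vec r hr e' he' _ q2 i hi
      have b := h.chain_vec r hr e he _ q1 i hi
      simp only [Nat.cast_zero, zero_add, one_mul] at a b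
      rw [a, b, e2]
    subst hk
    exact ⟨M', commTerms_of_entry h7 (entry_length (hshort _ h3) r), h9⟩

end Cfsg.Agent.Lib.InvE.Tree
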